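import Cfsg.Agent.Lib.O320.Rel

/-!
A group of order `320` whose derived subgroup has order `64` and four-group centre satisfies the relations.
-/

set_option autoImplicit false

namespace Cfsg.Agent.O320

open scoped commutatorElement

theorem card_modEq_fixed {H : Type*} [Group H] [Finite H] (S : Subgroup H) {g : H} (hg5 : g ^ 5 = 1)
    (hg : g ∈ Subgroup.normalizer (S : Set H)) :
    Nat.card S ≡ Nat.card ↥(S ⊓ Subgroup.centralizer ({g} : Set H)) [MOD 5] := by
  haveI : Fact (Nat.Prime 5) := ⟨by norm_num⟩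
  set N := Subgroup.normalizer (S : Set H)
  have hle : Subgroup.zpowers g ≤ N := Subgroup.zpowers_le.mpr hg
  letI : MulAction (Subgroup.zpowers g) S :=
    { smul := fun k y => ⟨(k : H) * y * (k : H)⁻¹, (Subgroup.mem_normalizer_iff.mp (hle k.2) _).mp y.2⟩
      one_smul := fun y => Subtype.ext (by show ((1 : Subgroup.zpowers g) : H) * y * _ = y; simp)
      mul_smul := fun k l y => Subtype.ext (by
        show ((k * l : Subgroup.zpowers g) : H) * y * ((k * l : Subgroup.zpowers g) : H)⁻¹ =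
          (k : H) * ((l : H) * y * (l : H)⁻¹) * (k : H)⁻¹
        simp only [Subgroup.coe_mul]
        group) }
  have hsmul : ∀ (k : Subgroup.zpowers g) (y : S), ((k • y : S) : H) = (k : H) * y * (k : H)⁻¹ :=
    fun _ _ => rfl
  have hp : IsPGroup 5 (Subgroup.zpowers g) := fun k => ⟨1, by
    obtain ⟨j, hj⟩ := Subgroup.mem_zpowers_iff.mp k.2
    apply Subtype.ext
    rw [pow_one, SubmonoidClass.coe_pow, ← hj, Subgroup.coe_one, ← zpow_natCast, ← zpow_mul,
      mul_comm, zpow_mul, zpow_natCast, hg5, one_zpow]⟩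
  have hcard : Nat.card ↥(S ⊓ Subgroup.centralizer ({g} : Set H)) =
      Nat.card (MulAction.fixedPoints (Subgroup.zpowers g) S) := ?_
  · rw [hcard]; exact hp.card_modEq_card_fixedPoints S
  refine Nat.card_congr
    { toFun := fun y => ⟨⟨y.1, y.2.1⟩, fun k => Subtype.ext ?_⟩
      invFun := fun y => ⟨y.1.1, y.1.2, ?_⟩
      left_inv := fun y => rfl
      right_inv := fun y => rfl }
  · rw [hsmul]
    obtain ⟨j, hj⟩ := Subgroup.mem_zpowers_iff.mp k.2
    have hc : Commute (y.1 : H) (k : H) := by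
      rw [← hj]; exact Commute.zpow_right (Subgroup.mem_centralizer_singleton_iff.mp y.2.2) j
    rw [← hc.eq, mul_inv_cancel_right]
  · refine Subgroup.mem_centralizer_singleton_iff.mpr ?_
    have := congrArg Subtype.val (y.2 ⟨g, Subgroup.mem_zpowers g⟩)
    rw [hsmul] at this
    rw [mul_inv_eq_iff_eq_mul] at this
    exact this.symm

/-- An automorphism of exponent five of a set with four points is trivial. -/
theorem perm_four_eq_one {α : Type*} [Finite α] (hα : Nat.card α = 4) (e : Equiv.Perm α) (he : e ^ 5 = 1) :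
    e = 1 := by
  classical
  haveI := Fintype.ofFinite α
  have h1 : orderOf e ∣ Nat.card (Equiv.Perm α) := orderOf_dvd_natCard e
  rw [Nat.card_eq_fintype_card, Fintype.card_perm, ← Nat.card_eq_fintype_card, hα] at h1
  have h5 : orderOf e ∣ 5 := orderOf_dvd_of_pow_eq_one he
  rw [← orderOf_eq_one_iff]
  exact Nat.eq_one_of_dvd_coprimes (a := Nat.factorial 4) (b := 5) (by decide) h1 h5

theorem sq_of_commute_mod {G : Type*} [Group G] {u v k : G} (e : u * v = v * u * k) (hk : k * k = 1)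
    (hkv : Commute k v) : (u * v) * (u * v) = u * u * (v * v) * k := by
  have e' : v * u = u * v * k := by rw [e, mul_assoc, hk, mul_one]
  calc (u * v) * (u * v) = u * (v * u) * v := by group
    _ = u * (u * v * k) * v := by rw [e']
    _ = u * u * v * (k * v) := by group
    _ = _ := by rw [hkv.eq]; group

theorem comm_mul_right {G : Type*} [Group G] {u v w k l : G} (e : u * v = v * u * k) (e' : u * w = w * u * l)
    (hk : Commute k w) : u * (v * w) = v * w * u * (l * k) := by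
  calc u * (v * w) = (u * v) * w := by group
    _ = v * u * (k * w) := by rw [e]; group
    _ = v * (u * w) * k := by rw [hk.eq]; group
    _ = _ := by rw [e']; group

theorem comm_mul_left {G : Type*} [Group G] {u v w k l : G} (e : u * w = w * u * k) (e' : v * w = w * v * l)
    (hk : Commute k v) : u * v * w = w * (u * v) * (k * l) := by
  calc u * v * w = u * (v * w) := by group
    _ = (u * w) * v * l := by rw [e']; group
    _ = w * u * (k * v) * l := by rw [e]; group
    _ = _ := by rw [hk.eq]; group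

variable {G : Type*} [Group G] [Finite G]

/-- Existence of the relations. -/
theorem exists_rel (hG : Nat.card G = 320) (hD : Nat.card (commutator G) = 64)
    (hZ : IsKleinFour (Subgroup.center (commutator G))) :
    ∃ (x : ℕ → G) (c z a : G), Rel x c z a ∧ Subgroup.closure ({x 0, c} : Set G) = ⊤ := by
  classical
  haveI : Fact (Nat.Prime 5) := ⟨by norm_num⟩
  haveI : Fact (Nat.Prime 2) := ⟨Nat.prime_two⟩
  set P := commutator G with hPdef
  set Z : Subgroup G := (Subgroup.center P).map P.subtype with hZdef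
  haveI hZn : Z.Normal := by rw [hZdef]; infer_instance
  have hmemZ : ∀ {y}, y ∈ Z ↔ y ∈ P ∧ ∀ p ∈ P, p * y = y * p := by
    intro y
    constructor
    · rintro ⟨y', hy', rfl⟩
      exact ⟨y'.2, fun p hp => congrArg Subtype.val (Subgroup.mem_center_iff.mp hy' ⟨p, hp⟩)⟩
    · rintro ⟨hy, h⟩
      exact ⟨⟨y, hy⟩, Subgroup.mem_center_iff.mpr fun p => Subtype.ext (h p p.2), rfl⟩
  have hZP : Z ≤ P := fun y hy => (hmemZ.mp hy).1
  have hcardZ : Nat.card Z = 4 := by
    rw [hZdef, ← Nat.card_congr (Subgroup.equivMapOfInjective _ _ P.subtype_injective).toEquiv]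
    exact hZ.card_four
  have hZsq : ∀ y ∈ Z, y * y = 1 := by
    rintro _ ⟨y, hy, rfl⟩
    have := Monoid.pow_exponent_eq_one (⟨y, hy⟩ : Subgroup.center P)
    rw [hZ.exponent_two, pow_two] at this
    exact congrArg (fun w : Subgroup.center P => ((w : P) : G)) this
  obtain ⟨c, hc⟩ := exists_prime_orderOf_dvd_card' (G := G) 5 (by rw [hG]; norm_num)
  have hc5 : c ^ 5 = 1 := hc ▸ pow_orderOf_eq_one c
  -- `c` centralises `Z`
  have hcZ : ∀ y ∈ Z, c * y * c⁻¹ = y := by
    intro y hy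
    let e : Equiv.Perm Z := MulAut.toPerm Z (MulAut.conjNormal c)
    have he : e = 1 := perm_four_eq_one hcardZ e (by
      simp only [e, ← map_pow, hc5, map_one])
    have h2 := congrArg (fun f : Equiv.Perm Z => (f ⟨y, hy⟩ : G)) he
    have h3 : ((MulAut.conjNormal c ⟨y, hy⟩ : Z) : G) = y := h2
    rwa [MulAut.conjNormal_apply] at h3
  -- `G = P ⟨c⟩`
  have hPC : P ⊔ Subgroup.zpowers c = ⊤ := by
    apply Subgroup.eq_top_of_card_eq
    rw [hG]
    have h1 := Subgroup.card_dvd_of_le (le_sup_left : P ≤ P ⊔ Subgroup.zpowers c)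
    have h2 := Subgroup.card_dvd_of_le (le_sup_right : Subgroup.zpowers c ≤ P ⊔ Subgroup.zpowers c)
    rw [hD] at h1; rw [Nat.card_zpowers, hc] at h2
    have h3 : 320 ∣ Nat.card ↥(P ⊔ Subgroup.zpowers c) :=
      Nat.Coprime.mul_dvd_of_dvd_of_dvd (m := 64) (n := 5) (by norm_num) h1 h2
    exact Nat.dvd_antisymm (hG ▸ Subgroup.card_subgroup_dvd_card _) h3
  have hdec : ∀ g : G, ∃ p ∈ P, ∃ j ∈ Subgroup.zpowers c, p * j = g := by
    intro g
    have hg : g ∈ ((P ⊔ Subgroup.zpowers c : Subgroup G) : Set G) := by rw [hPC]; trivial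
    rw [Subgroup.coe_mul_of_right_le_normalizer_left _ _ (fun k _ => by
      rw [Subgroup.normalizer_eq_top_iff.mpr (inferInstance : P.Normal)]; trivial)] at hg
    exact hg
  have hZcen : ∀ y ∈ Z, ∀ g : G, g * y = y * g := by
    intro y hy g
    obtain ⟨p, hp, j, hj, rfl⟩ := hdec g
    obtain ⟨i, rfl⟩ := Subgroup.mem_zpowers_iff.mp hj
    have h1 : Commute p y := (hmemZ.mp hy).2 p hp
    have h2 : Commute c y := mul_inv_eq_iff_eq_mul.mp (hcZ y hy)
    exact ((h1.mul_left (h2.zpow_left i))).eq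
  -- the quotient by `Z`
  let π := QuotientGroup.mk' Z
  have hπ : ∀ {g : G}, π g = 1 ↔ g ∈ Z := fun {g} => QuotientGroup.eq_one_iff g
  set Pb := P.map π with hPb
  haveI hPbn : Pb.Normal := Subgroup.Normal.map inferInstance π (QuotientGroup.mk'_surjective Z)
  have hcardPb : Nat.card Pb = 16 := by
    have h1 := Subgroup.card_eq_card_quotient_mul_card_subgroup (Z.subgroupOf P)
    rw [hD, Nat.card_congr (Subgroup.subgroupOfEquivOfLe hZP).toEquiv, hcardZ] at h1
    have e1 : Z.subgroupOf P = (π.comp P.subtype).ker := by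
      ext y; rw [MonoidHom.mem_ker, Subgroup.mem_subgroupOf]; exact hπ.symm
    have h2 : Nat.card (P ⧸ Z.subgroupOf P) = Nat.card Pb := by
      rw [Nat.card_congr ((QuotientGroup.quotientMulEquivOfEq e1).trans
        (QuotientGroup.quotientKerEquivRange (π.comp P.subtype))).toEquiv, MonoidHom.range_comp,
        Subgroup.range_subtype]
    omega
  set cb := π c with hcb
  have hcb5 : cb ^ 5 = 1 := by rw [hcb, ← map_pow, hc5, map_one]
  have hnorm : ∀ S : Subgroup (G ⧸ Z), S.Normal → cb ∈ Subgroup.normalizer (S : Set (G ⧸ Z)) := fun S hS => by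
    rw [Subgroup.normalizer_eq_top_iff.mpr hS]; trivial
  have h16 : ∀ S : Subgroup (G ⧸ Z), S ≤ Pb → Nat.card S ∈ Nat.divisors 16 := fun S hS =>
    Nat.mem_divisors.mpr ⟨hcardPb ▸ Subgroup.card_dvd_of_le hS, by norm_num⟩
  have hdiv16 : Nat.divisors 16 = {1, 2, 4, 8, 16} := by decide
  have hfix : Pb ⊓ Subgroup.centralizer ({cb} : Set (G ⧸ Z)) = ⊥ := by
    set C := Pb ⊓ Subgroup.centralizer ({cb} : Set (G ⧸ Z))
    have h1 : 16 ≡ Nat.card C [MOD 5] := hcardPb ▸ card_modEq_fixed Pb hcb5 (hnorm _ hPbn)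
    have h2 := h16 C inf_le_left
    rw [hdiv16] at h2
    simp only [Finset.mem_insert, Finset.mem_singleton] at h2
    unfold Nat.ModEq at h1
    rcases h2 with e | e | e | e | e <;> rw [e] at h1 <;> norm_num at h1
    · exact Subgroup.card_eq_one.mp e
    exfalso
    have hCe : C = Pb := Subgroup.eq_of_le_of_card_ge inf_le_left (by rw [e, hcardPb])
    -- `c` centralises `P`
    have hcP : ∀ p ∈ P, c * p * c⁻¹ = p := by
      intro p hp
      have h3 : π p ∈ Subgroup.centralizer ({cb} : Set (G ⧸ Z)) :=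
        (hCe.ge (Subgroup.mem_map_of_mem π hp)).2
      rw [Subgroup.mem_centralizer_singleton_iff, hcb] at h3
      have hw : p⁻¹ * (c * p * c⁻¹) ∈ Z := by
        rw [← hπ, map_mul, map_mul, map_mul, map_inv, map_inv, ← h3]
        group
      set w := p⁻¹ * (c * p * c⁻¹) with hwdef
      have hcp : c * p * c⁻¹ = p * w := by rw [hwdef]; group
      have hit : ∀ n : ℕ, c ^ n * p * (c ^ n)⁻¹ = p * w ^ n := by
        intro n
        induction n with
        | zero => simp
        | succ n ih =>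
          rw [pow_succ', mul_inv_rev, show c * c ^ n * p * ((c ^ n)⁻¹ * c⁻¹) =
            c * (c ^ n * p * (c ^ n)⁻¹) * c⁻¹ by group, ih,
            show c * (p * w ^ n) * c⁻¹ = (c * p * c⁻¹) * (c * w ^ n * c⁻¹) by group, hcp,
            hcZ _ (Z.pow_mem hw n), mul_assoc, ← pow_succ']
      have h4 := hit 5
      rw [hc5] at h4
      have h5 : w ^ 5 = 1 := by simpa using h4.symm
      have h6 : w = 1 := by
        rw [show (5 : ℕ) = 2 + 2 + 1 from rfl, pow_succ, pow_add, pow_two, hZsq _ hw, one_mul, one_mul] at h5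
        exact h5
      rw [hcp, h6, mul_one]
    have hcc : ∀ j ∈ Subgroup.zpowers c, ∀ p ∈ P, j * p = p * j := by
      intro j hj p hp
      obtain ⟨i, rfl⟩ := Subgroup.mem_zpowers_iff.mp hj
      exact (Commute.zpow_left (mul_inv_eq_iff_eq_mul.mp (hcP p hp)) i).eq
    have hle : ⁅(⊤ : Subgroup G), (⊤ : Subgroup G)⁆ ≤ ⁅P, P⁆ := by
      rw [Subgroup.commutator_le]
      intro g _ g' _
      obtain ⟨p, hp, j, hj, rfl⟩ := hdec g
      obtain ⟨p', hp', j', hj', rfl⟩ := hdec g'
      have h1 : ⁅p * j, p' * j'⁆ = ⁅p, p'⁆ := by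
        have a1 : j * p' = p' * j := hcc j hj p' hp'
        have a2 : Commute j j' := by
          obtain ⟨i, rfl⟩ := Subgroup.mem_zpowers_iff.mp hj
          obtain ⟨i', rfl⟩ := Subgroup.mem_zpowers_iff.mp hj'
          exact Commute.zpow_zpow (Commute.refl c) i i'
        have a3 : Commute j p := hcc j hj p hp
        have a4 : Commute j' p := hcc j' hj' p hp
        calc ⁅p * j, p' * j'⁆ = p * (j * (p' * j') * j⁻¹) * p⁻¹ * j'⁻¹ * p'⁻¹ := by
              rw [commutatorElement_def]; group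
          _ = p * (p' * j') * p⁻¹ * j'⁻¹ * p'⁻¹ := by
              rw [((show Commute j p' from a1).mul_right a2).eq, mul_inv_cancel_right]
          _ = p * p' * (j' * p⁻¹) * j'⁻¹ * p'⁻¹ := by group
          _ = _ := by rw [(a4.inv_right).eq, commutatorElement_def]; group
      rw [h1]
      exact Subgroup.commutator_mem_commutator hp hp'
    have hne : P ≠ ⊥ := fun e => by rw [e, Subgroup.card_bot] at hD; omega
    haveI : Group.IsSolvable G := by
      haveI : Group.IsSolvable P := by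
        haveI := (IsPGroup.of_card (p := 2) (n := 6) hD).isNilpotent
        infer_instance
      exact solvable_of_ker_le_range P.subtype (Abelianization.of)
        (by rw [Abelianization.ker_of, Subgroup.range_subtype])
    exact (lt_irrefl P) (lt_of_le_of_lt hle (IsSolvable.commutator_lt_of_ne_bot hne))
  have hone16 : ∀ S : Subgroup (G ⧸ Z), S ≤ Pb → cb ∈ Subgroup.normalizer (S : Set (G ⧸ Z)) →
      S ≠ ⊥ → S = Pb := by
    intro S hS hn hne
    have h1 : Nat.card S ≡ 1 [MOD 5] := by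
      have h := card_modEq_fixed S hcb5 hn
      rw [show S ⊓ Subgroup.centralizer ({cb} : Set (G ⧸ Z)) = ⊥ from
        le_bot_iff.mp ((inf_le_inf_right _ hS).trans hfix.le), Subgroup.card_bot] at h
      exact h
    have h2 := h16 S hS
    rw [hdiv16] at h2
    simp only [Finset.mem_insert, Finset.mem_singleton] at h2
    unfold Nat.ModEq at h1
    rcases h2 with e | e | e | e | e <;> rw [e] at h1 <;> norm_num at h1
    · exact absurd (Subgroup.card_eq_one.mp e) hne
    · exact Subgroup.eq_of_le_of_card_ge hS (by rw [e, hcardPb])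
  haveI : Nontrivial Pb := Finite.one_lt_card_iff_nontrivial.mp (by omega)
  have hPbp : IsPGroup 2 Pb := IsPGroup.of_card (n := 4) hcardPb
  have hab : ∀ u ∈ Pb, ∀ v ∈ Pb, u * v = v * u := by
    have hne : (Subgroup.center Pb).map Pb.subtype ≠ ⊥ := by
      intro e
      rw [Subgroup.map_eq_bot_iff_of_injective _ Pb.subtype_injective] at e
      exact hPbp.bot_lt_center.ne' e
    have e := hone16 _ (Subgroup.map_subtype_le _) (hnorm _ inferInstance) hne
    intro u hu v hv
    rw [← e] at hu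
    obtain ⟨u', hu', rfl⟩ := hu
    exact (congrArg Subtype.val (Subgroup.mem_center_iff.mp hu' ⟨v, hv⟩)).symm
  have hsq : ∀ p ∈ P, p * p ∈ Z := by
    let T : Subgroup (G ⧸ Z) :=
      { carrier := {u | u ∈ Pb ∧ u * u = 1}
        one_mem' := ⟨Pb.one_mem, by simp⟩
        mul_mem' := fun {u v} hu hv => ⟨Pb.mul_mem hu.1 hv.1, by
          calc u * v * (u * v) = u * (v * u) * v := by group
            _ = (u * u) * (v * v) := by rw [← hab u hu.1 v hv.1]; group
            _ = 1 := by rw [hu.2, hv.2, one_mul]⟩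
        inv_mem' := fun {u} hu => ⟨Pb.inv_mem hu.1, by rw [← mul_inv_rev, hu.2, inv_one]⟩ }
    have hTn : cb ∈ Subgroup.normalizer (T : Set (G ⧸ Z)) := by
      refine hnorm T ⟨fun u hu g => ⟨hPbn.conj_mem u hu.1 g, ?_⟩⟩
      rw [show g * u * g⁻¹ * (g * u * g⁻¹) = g * (u * u) * g⁻¹ by group, hu.2]
      group
    have hT : T ≠ ⊥ := by
      obtain ⟨u, hu⟩ := exists_prime_orderOf_dvd_card' (G := Pb) 2 (by rw [hcardPb]; norm_num)
      intro e
      have : (u : G ⧸ Z) ∈ T := ⟨u.2, by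
        rw [← pow_two, ← SubmonoidClass.coe_pow, ← hu, pow_orderOf_eq_one]; rfl⟩
      rw [e, Subgroup.mem_bot] at this
      rw [show u = 1 from Subtype.ext this, orderOf_one] at hu
      norm_num at hu
    have e := hone16 T (fun u hu => hu.1) hTn hT
    intro p hp
    have := (e.ge (Subgroup.mem_map_of_mem π hp)).2
    rw [← hπ, map_mul]
    exact this
  have hcomm : ∀ p ∈ P, ∀ r ∈ P, r⁻¹ * p⁻¹ * r * p ∈ Z := by
    intro p hp r hr
    have e := hab _ (Subgroup.mem_map_of_mem π hp) _ (Subgroup.mem_map_of_mem π hr)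
    rw [← hπ, map_mul, map_mul, map_mul, map_inv, map_inv]
    calc (π r)⁻¹ * (π p)⁻¹ * π r * π p = (π r)⁻¹ * (π p)⁻¹ * (π p * π r) := by rw [e]; group
      _ = 1 := by group
  -- a generator outside `Z`
  obtain ⟨x, hxP, hxZ⟩ : ∃ x ∈ P, x ∉ Z := SetLike.exists_of_lt
    (lt_of_le_of_ne hZP fun e => by rw [e] at hcardZ; omega)
  let y : ℕ → G := fun i => c ^ i * x * (c ^ i)⁻¹
  have hyP : ∀ i, y i ∈ P := fun i => (inferInstance : P.Normal).conj_mem x hxP _
  have hyc : ∀ i, c * y i * c⁻¹ = y (i + 1) := fun i => by simp only [y, pow_succ']; group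
  have hy5 : y 5 = y 0 := by simp [y, hc5]
  have hprod : y 0 * y 1 * y 2 * y 3 * y 4 ∈ Z := by
    rw [← hπ]
    have hm : ∀ i, π (y i) ∈ Pb := fun i => Subgroup.mem_map_of_mem π (hyP i)
    have hA : π (y 0 * y 1 * y 2 * y 3 * y 4) ∈ Pb ⊓ Subgroup.centralizer ({cb} : Set (G ⧸ Z)) := by
      refine ⟨Subgroup.mem_map_of_mem π (P.mul_mem (P.mul_mem (P.mul_mem (P.mul_mem (hyP 0) (hyP 1))
        (hyP 2)) (hyP 3)) (hyP 4)), ?_⟩
      refine Subgroup.mem_centralizer_singleton_iff.mpr ?_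
      refine (mul_inv_eq_iff_eq_mul.mp ?_).symm
      rw [hcb, ← map_inv, ← map_mul, ← map_mul,
        show c * (y 0 * y 1 * y 2 * y 3 * y 4) * c⁻¹ =
          (c * y 0 * c⁻¹) * (c * y 1 * c⁻¹) * (c * y 2 * c⁻¹) * (c * y 3 * c⁻¹) * (c * y 4 * c⁻¹) by group,
        hyc, hyc, hyc, hyc, hyc, hy5]
      simp only [map_mul]
      have h2 := hab _ (Pb.mul_mem (Pb.mul_mem (Pb.mul_mem (hm 1) (hm 2)) (hm 3)) (hm 4)) _ (hm 0)
      rw [h2]
      group
    rw [hfix, Subgroup.mem_bot] at hA
    exact hA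
  set mm := y 0 * y 1 * y 2 * y 3 with hmm
  have hmmP : mm ∈ P := P.mul_mem (P.mul_mem (P.mul_mem (hyP 0) (hyP 1)) (hyP 2)) (hyP 3)
  set w := mm⁻¹ * y 4 with hw
  have hwZ : w ∈ Z := by
    rw [show w = (mm * mm)⁻¹ * (mm * y 4) by rw [hw]; group]
    exact Z.mul_mem (Z.inv_mem (hsq _ hmmP)) hprod
  let X : ℕ → G := fun i => y i * w
  have hXP : ∀ i, X i ∈ P := fun i => P.mul_mem (hyP i) (hZP hwZ)
  have hXc : ∀ i, c * X i * c⁻¹ = X (i + 1) := fun i => by
    show c * (y i * w) * c⁻¹ = y (i + 1) * w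
    rw [show c * (y i * w) * c⁻¹ = (c * y i * c⁻¹) * (c * w * c⁻¹) by group, hyc, hcZ w hwZ]
  have hwrap : X 4 = X 0 * X 1 * X 2 * X 3 := by
    have hw2 : w * w = 1 := hZsq w hwZ
    have hwc : ∀ g, g * w = w * g := hZcen w hwZ
    show y 4 * w = y 0 * w * (y 1 * w) * (y 2 * w) * (y 3 * w)
    calc y 4 * w = mm * (w * w) := by rw [hw]; group
      _ = mm := by rw [hw2, mul_one]
      _ = y 0 * y 1 * y 2 * y 3 * ((w * w) * (w * w)) := by rw [hw2, hmm]; group
      _ = y 0 * (y 1 * (w * w)) * (y 2 * y 3) * (w * w) := by rw [hw2]; group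
      _ = y 0 * (y 1 * w) * w * (y 2 * (y 3 * w)) * w := by group
      _ = y 0 * (w * y 1) * w * (y 2 * (w * y 3)) * w := by rw [hwc (y 1), hwc (y 3)]
      _ = _ := by group
  set z := X 0 * X 0 with hz
  set a := (X 1 * X 0)⁻¹ * (X 0 * X 1) with ha
  set b := (X 2 * X 0)⁻¹ * (X 0 * X 2) with hb
  have hzZ : z ∈ Z := hsq _ (hXP 0)
  have haZ : a ∈ Z := by
    rw [show a = (X 0)⁻¹ * (X 1)⁻¹ * X 0 * X 1 by rw [ha]; group]; exact hcomm _ (hXP 1) _ (hXP 0)
  have hbZ : b ∈ Z := by
    rw [show b = (X 0)⁻¹ * (X 2)⁻¹ * X 0 * X 2 by rw [hb]; group]; exact hcomm _ (hXP 2) _ (hXP 0)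
  have hshift : ∀ (k : G), k ∈ Z → ∀ i j n, X i * X j = X j * X i * k →
      X (i + n) * X (j + n) = X (j + n) * X (i + n) * k := by
    intro k hk i j n h0
    induction n with
    | zero => simpa using h0
    | succ n ih =>
      have e := congrArg (fun g => c * g * c⁻¹) ih
      beta_reduce at e
      rw [show c * (X (i + n) * X (j + n)) * c⁻¹ = (c * X (i + n) * c⁻¹) * (c * X (j + n) * c⁻¹) by group,
        show c * (X (j + n) * X (i + n) * k) * c⁻¹ =
          (c * X (j + n) * c⁻¹) * (c * X (i + n) * c⁻¹) * (c * k * c⁻¹) by group,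
        hXc, hXc, hcZ k hk] at e
      exact e
  have h01 : X 0 * X 1 = X 1 * X 0 * a := by rw [ha]; group
  have h02 : X 0 * X 2 = X 2 * X 0 * b := by rw [hb]; group
  have h12 : X 1 * X 2 = X 2 * X 1 * a := hshift a haZ 0 1 1 h01
  have h23 : X 2 * X 3 = X 3 * X 2 * a := hshift a haZ 0 1 2 h01
  have h13 : X 1 * X 3 = X 3 * X 1 * b := hshift b hbZ 0 2 1 h02
  have h03 : X 0 * X 3 = X 3 * X 0 * b := by
    have h35 : X 3 * X 5 = X 5 * X 3 * b := hshift b hbZ 0 2 3 h02
    have hX5 : X 5 = X 0 := by show y 5 * w = y 0 * w; rw [hy5]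
    rw [hX5] at h35
    rw [h35, mul_assoc (X 0 * X 3) b b, hZsq b hbZ, mul_one]
  have hsqX : ∀ i, X i * X i = z := by
    intro i
    induction i with
    | zero => rfl
    | succ i ih =>
      rw [← hXc, show c * X i * c⁻¹ * (c * X i * c⁻¹) = c * (X i * X i) * c⁻¹ by group, ih, hcZ z hzZ]
  have hcz : ∀ k ∈ Z, ∀ g, Commute k g := fun k hk g => (hZcen k hk g).symm
  have hbeq : b = a * z := by
    have hu : (X 0 * X 1) * (X 0 * X 1) = a := by
      rw [sq_of_commute_mod h01 (hZsq a haZ) (hcz a haZ _), hsqX, hsqX, hZsq z hzZ, one_mul]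
    have hv : (X 2 * X 3) * (X 2 * X 3) = a := by
      rw [sq_of_commute_mod h23 (hZsq a haZ) (hcz a haZ _), hsqX, hsqX, hZsq z hzZ, one_mul]
    have e2 := comm_mul_left h02 h12 (hcz b hbZ _)
    have e3 := comm_mul_left h03 h13 (hcz b hbZ _)
    have e := comm_mul_right e2 e3 (hcz (b * a) (Z.mul_mem hbZ haZ) _)
    have hk : b * b * (b * a) = b * a := by rw [hZsq b hbZ, one_mul]
    rw [hk] at e
    have h4 := sq_of_commute_mod e (hZsq _ (Z.mul_mem hbZ haZ)) (hcz (b * a) (Z.mul_mem hbZ haZ) _)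
    rw [hu, hv, hZsq a haZ, one_mul, show X 0 * X 1 * (X 2 * X 3) = X 4 by rw [hwrap]; group, hsqX] at h4
    rw [h4, ← mul_assoc, hZcen b hbZ a, mul_assoc, show b * (a * a) = b * 1 by rw [hZsq a haZ]]
    group
  have hrel : Rel X c z a :=
    { cpow := hc5
      conj := fun i _ => hXc i
      zc := hcz z hzZ c
      ac := hcz a haZ c
      za := hcz z hzZ a
      zx := fun i _ => hcz z hzZ _
      ax := fun i _ => hcz a haZ _
      z2 := hZsq z hzZ
      a2 := hZsq a haZ
      sq := fun i _ => hsqX i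
      comm := fun i hi j hj hij => by
        interval_cases i <;> interval_cases j <;> simp <;> first
          | exact h01 | exact h12 | exact h23 | (rw [← hbeq]; first | exact h02 | exact h03 | exact h13)
      wrap := hwrap }
  refine ⟨X, c, z, a, hrel, ?_⟩
  set K := Subgroup.closure ({X 0, c} : Set G)
  have hcK : c ∈ K := Subgroup.subset_closure (Set.mem_insert_of_mem _ rfl)
  have hX0K : X 0 ∈ K := Subgroup.subset_closure (Set.mem_insert _ _)
  have hKn : cb ∈ Subgroup.normalizer (((K ⊓ P).map π : Subgroup (G ⧸ Z)) : Set (G ⧸ Z)) := by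
    refine mem_normalizer_of_map_le ?_
    rintro _ ⟨_, ⟨p, hp, rfl⟩, rfl⟩
    exact ⟨c * p * c⁻¹, ⟨K.mul_mem (K.mul_mem hcK hp.1) (K.inv_mem hcK),
      (inferInstance : P.Normal).conj_mem p hp.2 c⟩, by simp [hcb]⟩
  have hKne : (K ⊓ P).map π ≠ ⊥ := fun e => by
    have : π (X 0) ∈ (K ⊓ P).map π := Subgroup.mem_map_of_mem π ⟨hX0K, hXP 0⟩
    rw [e, Subgroup.mem_bot, hπ] at this
    refine hxZ ?_
    have h0 : X 0 * w⁻¹ = x := by simp [X, y]
    rw [← h0]
    exact Z.mul_mem this (Z.inv_mem hwZ)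
  have hKP := hone16 _ (Subgroup.map_mono inf_le_right) hKn hKne
  have hall : ∀ g : G, ∃ k ∈ K, ∃ u ∈ Z, k * u = g := by
    intro g
    obtain ⟨p, hp, j, hj, rfl⟩ := hdec g
    obtain ⟨p', hp', e⟩ := hKP.ge (Subgroup.mem_map_of_mem π hp)
    have hu : p'⁻¹ * p ∈ Z := by rw [← hπ, map_mul, map_inv, e, inv_mul_cancel]
    refine ⟨p' * j, K.mul_mem hp'.1 (Subgroup.zpowers_le.mpr hcK hj), p'⁻¹ * p, hu, ?_⟩
    rw [mul_assoc, hZcen _ hu j]
    group
  have hPK : P ≤ K := by
    rw [hPdef, commutator_def, Subgroup.commutator_le]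
    intro g _ g' _
    obtain ⟨k, hk, u, hu, rfl⟩ := hall g
    obtain ⟨k', hk', u', hu', rfl⟩ := hall g'
    have e : ⁅k * u, k' * u'⁆ = ⁅k, k'⁆ := by
      calc ⁅k * u, k' * u'⁆ = k * (u * (k' * u') * u⁻¹) * k⁻¹ * u'⁻¹ * k'⁻¹ := by
            rw [commutatorElement_def]; group
        _ = k * k' * (u' * k⁻¹) * u'⁻¹ * k'⁻¹ := by
            rw [← hZcen u hu (k' * u'), mul_inv_cancel_right]; group
        _ = _ := by rw [← hZcen u' hu' k⁻¹, commutatorElement_def]; group
    rw [e, commutatorElement_def]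
    exact K.mul_mem (K.mul_mem (K.mul_mem hk hk') (K.inv_mem hk)) (K.inv_mem hk')
  rw [eq_top_iff, ← hPC]
  exact sup_le hPK (Subgroup.zpowers_le.mpr hcK)

end Cfsg.Agent.O320
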