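import Mathlib

/-!
A presentation of the group `2^(2+4):5` by two generators.
-/

set_option autoImplicit false

namespace Cfsg.Agent.O320

/-- Relations between five conjugates `x i` of an element, the conjugating element `c` of order five and
two central involutions `z`, `a`. -/
structure Rel {G : Type*} [Group G] (x : ℕ → G) (c z a : G) : Prop where
  cpow : c ^ 5 = 1
  conj : ∀ i < 4, c * x i * c⁻¹ = x (i + 1)
  zc : Commute z c
  ac : Commute a c
  za : Commute z a
  zx : ∀ i < 4, Commute z (x i)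
  ax : ∀ i < 4, Commute a (x i)
  z2 : z * z = 1
  a2 : a * a = 1
  sq : ∀ i < 4, x i * x i = z
  comm : ∀ i < 4, ∀ j < 4, i < j → x i * x j = x j * x i * (if j = i + 1 then a else a * z)
  wrap : x 4 = x 0 * x 1 * x 2 * x 3

theorem Rel.prod {G H : Type*} [Group G] [Group H] {x : ℕ → G} {c z a : G} {y : ℕ → H} {d w b : H}
    (h : Rel x c z a) (h' : Rel y d w b) :
    Rel (fun i => (x i, y i)) (c, d) (z, w) (a, b) where
  cpow := Prod.ext h.cpow h'.cpow
  conj i hi := Prod.ext (h.conj i hi) (h'.conj i hi)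
  zc := Prod.ext h.zc h'.zc
  ac := Prod.ext h.ac h'.ac
  za := Prod.ext h.za h'.za
  zx i hi := Prod.ext (h.zx i hi) (h'.zx i hi)
  ax i hi := Prod.ext (h.ax i hi) (h'.ax i hi)
  z2 := Prod.ext h.z2 h'.z2
  a2 := Prod.ext h.a2 h'.a2
  sq i hi := Prod.ext (h.sq i hi) (h'.sq i hi)
  comm i hi j hj hij := by
    have h1 := h.comm i hi j hj hij
    have h2 := h'.comm i hi j hj hij
    split_ifs with hh <;> simp_all
  wrap := Prod.ext h.wrap h'.wrap

variable {G : Type*} [Group G] [Finite G]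

theorem card_sup_zpowers_le {K : Subgroup G} {g : G} (hg : g ∈ Subgroup.normalizer (K : Set G)) {n : ℕ}
    (hn : 0 < n) (hpow : g ^ n ∈ K) :
    Nat.card ↥(K ⊔ Subgroup.zpowers g) ≤ n * Nat.card K := by
  classical
  have key : ∀ y ∈ K ⊔ Subgroup.zpowers g, ∃ p : Fin n × K, (p.2 : G) * g ^ (p.1 : ℕ) = y := by
    intro y hy
    have hy' : y ∈ ((K ⊔ Subgroup.zpowers g : Subgroup G) : Set G) := hy
    rw [Subgroup.coe_mul_of_right_le_normalizer_left _ _ (Subgroup.zpowers_le.mpr hg)] at hy'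
    obtain ⟨k, hk, m, hm, rfl⟩ := hy'
    obtain ⟨j, rfl⟩ := mem_powers_iff_mem_zpowers.mpr hm
    refine ⟨⟨⟨j % n, Nat.mod_lt _ hn⟩, ⟨k * (g ^ n) ^ (j / n), K.mul_mem hk (K.pow_mem hpow _)⟩⟩, ?_⟩
    show k * (g ^ n) ^ (j / n) * g ^ (j % n) = k * g ^ j
    rw [mul_assoc, ← pow_mul, ← pow_add, Nat.div_add_mod]
  let f : Fin n × K → ↥(K ⊔ Subgroup.zpowers g) := fun p =>
    ⟨(p.2 : G) * g ^ (p.1 : ℕ), Subgroup.mul_mem _ (Subgroup.mem_sup_left p.2.2)
      (Subgroup.pow_mem _ (Subgroup.mem_sup_right (Subgroup.mem_zpowers g)) _)⟩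
  have hf : Function.Surjective f := by
    rintro ⟨y, hy⟩
    obtain ⟨p, hp⟩ := key y hy
    exact ⟨p, Subtype.ext hp⟩
  refine (Nat.card_le_card_of_surjective f hf).trans ?_
  rw [Nat.card_prod, Nat.card_fin]

theorem mem_normalizer_of_map_le {K : Subgroup G} {g : G} (h : K.map (MulAut.conj g).toMonoidHom ≤ K) :
    g ∈ Subgroup.normalizer (K : Set G) := by
  have he : K.map (MulAut.conj g).toMonoidHom = K := by
    refine Subgroup.eq_of_le_of_card_ge h ?_
    rw [← Nat.card_congr (Subgroup.equivMapOfInjective _ _ (MulAut.conj g).injective).toEquiv]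
  rw [Subgroup.mem_normalizer_iff]
  intro y
  constructor
  · intro hy
    rw [← he]
    exact ⟨y, hy, by simp⟩
  · intro hy
    rw [← he] at hy
    obtain ⟨y', hy', he'⟩ := hy
    have : y' = y := (MulAut.conj g).injective (by simpa using he')
    exact this ▸ hy'

theorem mem_normalizer_zpowers_of_commute {g h : G} (e : Commute h g) :
    g ∈ Subgroup.normalizer (Subgroup.zpowers h : Set G) := by
  refine mem_normalizer_of_map_le ?_
  rw [MonoidHom.map_zpowers, Subgroup.zpowers_le]
  have : g * h * g⁻¹ = h := by rw [← e.eq, mul_inv_cancel_right]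
  simpa [this] using Subgroup.mem_zpowers h

theorem mem_normalizer_sup {K : Subgroup G} {g h : G} (hK : g ∈ Subgroup.normalizer (K : Set G))
    (hh : g * h * g⁻¹ ∈ K ⊔ Subgroup.zpowers h) :
    g ∈ Subgroup.normalizer ((K ⊔ Subgroup.zpowers h : Subgroup G) : Set G) := by
  refine mem_normalizer_of_map_le ?_
  rw [Subgroup.map_sup]
  refine sup_le (le_trans ?_ le_sup_left) ?_
  · rintro _ ⟨y, hy, rfl⟩
    simpa using (Subgroup.mem_normalizer_iff.mp hK y).mp hy
  · rw [MonoidHom.map_zpowers, Subgroup.zpowers_le]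
    simpa using hh

/-- The generated group has at most `320` elements. -/
theorem Rel.card_closure_le {x : ℕ → G} {c z a : G} (h : Rel x c z a) :
    Nat.card ↥(Subgroup.closure ({x 0, c} : Set G)) ≤ 320 := by
  set A1 := Subgroup.zpowers z ⊔ Subgroup.zpowers a with hA1
  set B0 := A1 ⊔ Subgroup.zpowers (x 0) with hB0
  set B1 := B0 ⊔ Subgroup.zpowers (x 1) with hB1
  set B2 := B1 ⊔ Subgroup.zpowers (x 2) with hB2
  set B3 := B2 ⊔ Subgroup.zpowers (x 3) with hB3
  have hzA : z ∈ A1 := Subgroup.mem_sup_left (Subgroup.mem_zpowers z)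
  have haA : a ∈ A1 := Subgroup.mem_sup_right (Subgroup.mem_zpowers a)
  have hk : ∀ i j : ℕ, (if j = i + 1 then a else a * z) ∈ A1 := fun i j => by
    split_ifs
    · exact haA
    · exact A1.mul_mem haA hzA
  have hA1n : ∀ g : G, Commute z g → Commute a g → g ∈ Subgroup.normalizer (A1 : Set G) :=
    fun g hz ha => mem_normalizer_sup (mem_normalizer_zpowers_of_commute hz) (by
      rw [← ha.eq, mul_inv_cancel_right]; exact haA)
  have hconj : ∀ i < 4, ∀ j < 4, i < j →
      x j * x i * (x j)⁻¹ = x i * (if j = i + 1 then a else a * z) := by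
    intro i hi j hj hij
    have e := h.comm i hi j hj hij
    set k := (if j = i + 1 then a else a * z) with hkdef
    have hkj : Commute k (x j) := by
      rw [hkdef]; split_ifs
      · exact h.ax j hj
      · exact (h.ax j hj).mul_left (h.zx j hj)
    have hk2 : k * k = 1 := by
      rw [hkdef]; split_ifs
      · exact h.a2
      · rw [show a * z * (a * z) = a * (z * a) * z by group, h.za.eq,
          show a * (a * z) * z = a * a * (z * z) by group, h.a2, h.z2, one_mul]
    have e' : x j * x i = x i * x j * k := by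
      rw [e, mul_assoc, hk2, mul_one]
    rw [e', mul_assoc (x i), ← hkj.eq, ← mul_assoc (x i), mul_inv_cancel_right]
  -- sizes
  have cA0 : Nat.card ↥(Subgroup.zpowers z) ≤ 2 := by
    rw [Nat.card_zpowers]
    exact orderOf_le_of_pow_eq_one (by norm_num) (by rw [pow_two, h.z2])
  have cA1 : Nat.card A1 ≤ 2 * 2 :=
    (card_sup_zpowers_le (mem_normalizer_zpowers_of_commute h.za) (n := 2) (by norm_num)
      (by rw [pow_two, h.a2]; exact Subgroup.one_mem _)).trans (by omega)
  have s0 : x 0 * x 0 = z := h.sq 0 (by norm_num)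
  have n0 : x 0 ∈ Subgroup.normalizer (A1 : Set G) := hA1n _ (h.zx 0 (by norm_num)) (h.ax 0 (by norm_num))
  have hstep : ∀ (B : Subgroup G) (j : ℕ), j < 4 → A1 ≤ B →
      x j ∈ Subgroup.normalizer (B : Set G) → Nat.card ↥(B ⊔ Subgroup.zpowers (x j)) ≤ 2 * Nat.card B :=
    fun B j hj hB hn => card_sup_zpowers_le hn (by norm_num) (by rw [pow_two, h.sq j hj]; exact hB hzA)
  have hB0' : A1 ≤ B0 := le_sup_left
  have hB1' : A1 ≤ B1 := hB0'.trans le_sup_left
  have hB2' : A1 ≤ B2 := hB1'.trans le_sup_left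
  have hx : ∀ (B : Subgroup G) (i j : ℕ), i < 4 → j < 4 → i < j → A1 ≤ B → x i ∈ B →
      x j * x i * (x j)⁻¹ ∈ B := fun B i j hi hj hij hB hiB => by
    rw [hconj i hi j hj hij]; exact B.mul_mem hiB (hB (hk i j))
  have x0B0 : x 0 ∈ B0 := Subgroup.mem_sup_right (Subgroup.mem_zpowers _)
  have x1B1 : x 1 ∈ B1 := Subgroup.mem_sup_right (Subgroup.mem_zpowers _)
  have x2B2 : x 2 ∈ B2 := Subgroup.mem_sup_right (Subgroup.mem_zpowers _)
  have x3B3 : x 3 ∈ B3 := Subgroup.mem_sup_right (Subgroup.mem_zpowers _)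
  have nB0 : ∀ j, 0 < j → j < 4 → x j ∈ Subgroup.normalizer (B0 : Set G) := fun j h0 hj =>
    mem_normalizer_sup (hA1n _ (h.zx j hj) (h.ax j hj)) (hx B0 0 j (by norm_num) hj h0 hB0' x0B0)
  have nB1 : ∀ j, 1 < j → j < 4 → x j ∈ Subgroup.normalizer (B1 : Set G) := fun j h0 hj =>
    mem_normalizer_sup (nB0 j (by omega) hj) (hx B1 1 j (by norm_num) hj h0 hB1' x1B1)
  have nB2 : ∀ j, 2 < j → j < 4 → x j ∈ Subgroup.normalizer (B2 : Set G) := fun j h0 hj =>
    mem_normalizer_sup (nB1 j (by omega) hj) (hx B2 2 j (by norm_num) hj h0 hB2' x2B2)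
  have cB3 : Nat.card B3 ≤ 64 := by
    have e0 := hstep A1 0 (by norm_num) le_rfl n0
    have e1 := hstep B0 1 (by norm_num) hB0' (nB0 1 (by norm_num) (by norm_num))
    have e2 := hstep B1 2 (by norm_num) hB1' (nB1 2 (by norm_num) (by norm_num))
    have e3 := hstep B2 3 (by norm_num) hB2' (nB2 3 (by norm_num) (by norm_num))
    rw [← hB0] at e0; rw [← hB1] at e1; rw [← hB2] at e2; rw [← hB3] at e3
    omega
  -- the conjugating element
  have hle0 : B0 ≤ B3 := le_sup_left.trans (le_sup_left.trans le_sup_left)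
  have hle1 : B1 ≤ B3 := le_sup_left.trans le_sup_left
  have hle2 : B2 ≤ B3 := le_sup_left
  have hA3 : A1 ≤ B3 := hB0'.trans hle0
  have m : ∀ i < 5, x i ∈ B3 := by
    intro i hi
    interval_cases i
    · exact hle0 x0B0
    · exact hle1 x1B1
    · exact hle2 x2B2
    · exact x3B3
    · rw [h.wrap]
      exact B3.mul_mem (B3.mul_mem (B3.mul_mem (hle0 x0B0) (hle1 x1B1)) (hle2 x2B2)) x3B3
  have nc : c ∈ Subgroup.normalizer (B3 : Set G) := by
    refine mem_normalizer_of_map_le ?_
    simp only [hB3, hB2, hB1, hB0, hA1, Subgroup.map_sup, MonoidHom.map_zpowers, sup_le_iff,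
      Subgroup.zpowers_le, MulEquiv.coe_toMonoidHom, MulAut.conj_apply]
    have hzc : c * z * c⁻¹ = z := by rw [← h.zc.eq, mul_inv_cancel_right]
    have hac : c * a * c⁻¹ = a := by rw [← h.ac.eq, mul_inv_cancel_right]
    simp only [hzc, hac, h.conj 0 (by norm_num), h.conj 1 (by norm_num), h.conj 2 (by norm_num),
      h.conj 3 (by norm_num)]
    exact ⟨⟨⟨⟨⟨hA3 hzA, hA3 haA⟩, m 1 (by norm_num)⟩, m 2 (by norm_num)⟩, m 3 (by norm_num)⟩,
      m 4 (by norm_num)⟩
  have hle : Subgroup.closure ({x 0, c} : Set G) ≤ B3 ⊔ Subgroup.zpowers c := by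
    rw [Subgroup.closure_le]
    rintro _ (rfl | rfl)
    · exact Subgroup.mem_sup_left (m 0 (by norm_num))
    · exact Subgroup.mem_sup_right (Subgroup.mem_zpowers _)
  have hcc := card_sup_zpowers_le nc (n := 5) (by norm_num) (by rw [h.cpow]; exact Subgroup.one_mem _)
  have := Subgroup.card_le_of_le hle
  omega

/-- Two groups of order `320` generated by such elements are isomorphic. -/
theorem Rel.mulEquiv {H : Type*} [Group H] [Finite H] {x : ℕ → G} {c z a : G} {y : ℕ → H} {d w b : H}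
    (h : Rel x c z a) (h' : Rel y d w b) (hG : Subgroup.closure ({x 0, c} : Set G) = ⊤)
    (hH : Subgroup.closure ({y 0, d} : Set H) = ⊤) (cG : Nat.card G = 320) (cH : Nat.card H = 320) :
    Nonempty (G ≃* H) := by
  set Γ := Subgroup.closure ({(x 0, y 0), (c, d)} : Set (G × H))
  have hle : Nat.card Γ ≤ 320 := (h.prod h').card_closure_le
  have hs1 : Function.Surjective ((MonoidHom.fst G H).comp Γ.subtype) := by
    rw [← MonoidHom.range_eq_top, MonoidHom.range_comp, Subgroup.range_subtype, MonoidHom.map_closure,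
      Set.image_insert_eq, Set.image_singleton]
    exact hG
  have hs2 : Function.Surjective ((MonoidHom.snd G H).comp Γ.subtype) := by
    rw [← MonoidHom.range_eq_top, MonoidHom.range_comp, Subgroup.range_subtype, MonoidHom.map_closure,
      Set.image_insert_eq, Set.image_singleton]
    exact hH
  have hge := Nat.card_le_card_of_surjective _ hs1
  let e1 := MulEquiv.ofBijective _ ((Nat.bijective_iff_surjective_and_card _).mpr ⟨hs1, by omega⟩)
  let e2 := MulEquiv.ofBijective _ ((Nat.bijective_iff_surjective_and_card _).mpr ⟨hs2, by omega⟩)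
  exact ⟨e1.symm.trans e2⟩

end Cfsg.Agent.O320
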