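import Cfsg.Agent.Lib.O320.Rel
import Cfsg.Agent.Lib.AutPSU.Pair
import Cfsg.Agent.Lib.AutPSU.Group
import Cfsg.Agent.Lib.InvChar.SU3Sylow

/-!
The centraliser of a transvection in `SU(3,4)` in the two-generator form.
-/

set_option autoImplicit false
set_option linter.style.haveILetI false
set_option maxHeartbeats 1000000

namespace Cfsg.Agent.O320

open Cfsg.Agent

variable {F : Type*} [Field F] [Fintype F]

theorem exists_model (hF : Fintype.card F = 16) :
    ∃ (t : Cfsg.SU 3 F 4) (y : ℕ → Subgroup.centralizer ({t} : Set (Cfsg.SU 3 F 4)))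
      (d z a : Subgroup.centralizer ({t} : Set (Cfsg.SU 3 F 4))),
      orderOf t = 2 ∧ Rel y d z a ∧ Subgroup.closure ({y 0, d} : Set _) = ⊤ ∧
      Nat.card (Subgroup.centralizer ({t} : Set (Cfsg.SU 3 F 4))) = 320 := by
  classical
  haveI : Fact (Nat.Prime 2) := ⟨Nat.prime_two⟩
  haveI : CharP F 2 := charP_of_card_eq_prime_pow (f := 4) (by rw [hF]; norm_num)
  haveI hQ : AutPSU.QField F 4 := AutPSU.QField.of_card (by rw [hF]; norm_num)
  obtain ⟨e, f, w, hee, hff, hef, hfe, hwe, hew, hwf, hfw, hww⟩ :=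
    InvChar.exists_su3_frame (F := F) (q := 4)
  have hp : AutPSU.HPair 4 e f := ⟨hee, hff, hef⟩
  have hw0 : AutPSU.InW 4 e f w := ⟨hwe, hwf⟩
  set σ := AutPSU.qb (F := F) 4 with hσdef
  have hσ : ∀ u : F, σ u = u ^ 4 := fun u => AutPSU.qb_apply u
  haveI : Fact (Nat.Prime 5) := ⟨by norm_num⟩
  obtain ⟨ζu, hζu⟩ := exists_prime_orderOf_dvd_card' (G := Fˣ) 5 (by
    rw [Nat.card_units, Nat.card_eq_fintype_card, hF]; norm_num)
  set ζ : F := (ζu : F) with hζdef
  have hζ5 : ζ ^ 5 = 1 := by
    rw [hζdef, ← Units.val_pow_eq_pow_val, ← hζu, pow_orderOf_eq_one, Units.val_one]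
  have hζord : orderOf ζ = 5 := by rw [hζdef, orderOf_units, hζu]
  have hζ0 : ζ ≠ 0 := Units.ne_zero ζu
  set b : F := ζ ^ 2 with hbdef
  have hb5 : b ^ 5 = 1 := by rw [hbdef, ← pow_mul, mul_comm, pow_mul, hζ5, one_pow]
  have hb1 : b ≠ 1 := fun h => by
    have := orderOf_dvd_of_pow_eq_one (x := ζ) (n := 2) h
    rw [hζord] at this; norm_num at this
  have hΦ : b ^ 4 + b ^ 3 + b ^ 2 + b + 1 = 0 := by
    refine (mul_eq_zero.mp (?_ : (b - 1) * (b ^ 4 + b ^ 3 + b ^ 2 + b + 1) = 0)).resolve_left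
      (sub_ne_zero.mpr hb1)
    linear_combination hb5
  have h2 : (2 : F) = 0 := CharTwo.two_eq_zero
  let Valid : F → F → Prop := fun β γ => γ + σ γ = β * σ β
  have hIsQ : ∀ β γ, Valid β γ → AutPSU.IsQ 4 e (β • w) γ := fun β γ h => by
    refine ⟨hee, by rw [AutPSU.H_smul_left, hwe, mul_zero], ?_⟩
    rw [AutPSU.H_smul_left, AutPSU.H_smul_right, hww, mul_one, h, CharTwo.add_self_eq_zero]
  let E : F → F → Cfsg.SU 3 F 4 := fun β γ =>
    if h : Valid β γ then AutPSU.qE e (β • w) γ (hIsQ β γ h) else 1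
  have hEeq : ∀ {β γ : F} (h : Valid β γ), E β γ = AutPSU.qE e (β • w) γ (hIsQ β γ h) :=
    fun {β γ} h => dif_pos h
  have hVmul : ∀ {β γ β' γ' : F}, Valid β γ → Valid β' γ' → Valid (β + β') (γ + γ' + β' * σ β) := by
    intro β γ β' γ' h h'
    show γ + γ' + β' * σ β + σ (γ + γ' + β' * σ β) = (β + β') * σ (β + β')
    simp only [map_add, map_mul, hσdef, AutPSU.qb_qb]
    have h1 : γ + σ γ = β * σ β := h
    have h1' : γ' + σ γ' = β' * σ β' := h'
    linear_combination h1 + h1'
  have hEmul : ∀ {β γ β' γ' : F} (h : Valid β γ) (h' : Valid β' γ'),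
      E β γ * E β' γ' = E (β + β') (γ + γ' + β' * σ β) := by
    intro β γ β' γ' h h'
    rw [hEeq h, hEeq h', hEeq (hVmul h h')]
    rw [AutPSU.qE_mul]
    refine AutPSU.qE_congr (add_smul _ _ _).symm ?_
    rw [AutPSU.H_smul_left, AutPSU.H_smul_right, hww, mul_one, CharTwo.sub_eq_add]
  have hEf : ∀ {β γ : F} (h : Valid β γ), AutPSU.app (E β γ) f = f + β • w + γ • e := by
    intro β γ h
    rw [hEeq h, AutPSU.qE_apply, hfe, AutPSU.H_smul_right, hfw, mul_zero, zero_smul, sub_zero, one_smul, mul_one]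
  have hEe : ∀ {β γ : F} (h : Valid β γ), AutPSU.app (E β γ) e = e := by
    intro β γ h
    rw [hEeq h]
    simp [hee, hew, AutPSU.H_smul_right]
  have hV0 : Valid 0 0 := by simp [Valid]
  have hE1 : E 0 0 = 1 := by
    rw [hEeq hV0, ← AutPSU.qE_one (F := F) (q := 4) (n := 3) hee]
    exact AutPSU.qE_congr (zero_smul _ _) rfl
  have hV01 : Valid 0 1 := by simp [Valid, CharTwo.add_self_eq_zero]
  let t := E 0 1
  -- the torus element
  obtain ⟨d, hd, hdw⟩ := AutPSU.exists_dElt_refl hp hw0 (by rw [hww]; exact one_ne_zero) hζ0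
  have hdE : ∀ {β γ : F} (h : Valid β γ) (h' : Valid (β * b) γ), d * E β γ * d⁻¹ = E (β * b) γ := by
    intro β γ h h'
    rw [hEeq h, hEeq h', hd.conj]
    refine AutPSU.qE_congr ?_ ?_
    · rw [AutPSU.app_smul, hdw, smul_smul, smul_smul]
      congr 1
      rw [← hσdef, hσ, hbdef]
      field_simp
      grind
    · rw [AutPSU.qb_qb, ← hσdef, hσ]
      linear_combination γ * hζ5
  have hVb : ∀ {β γ : F}, Valid β γ → Valid (β * b) γ := fun {β γ} h => by
    show γ + σ γ = β * b * σ (β * b)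
    rw [map_mul, hσ b, show β * b * (σ β * b ^ 4) = β * σ β * b ^ 5 by ring, hb5, mul_one]
    exact h
  have hdt : d * t * d⁻¹ = t := (hdE hV01 (hVb hV01)).trans (by rw [zero_mul])
  have hbase : ∀ (v : Fin 3 → F), v = Cfsg.hermForm 3 F 4 v f • e + Cfsg.hermForm 3 F 4 v e • f +
      Cfsg.hermForm 3 F 4 v w • w := by
    let φ : (Fin 3 → F) → (Fin 3 → F) := fun v =>
      ![Cfsg.hermForm 3 F 4 v f, Cfsg.hermForm 3 F 4 v e, Cfsg.hermForm 3 F 4 v w]
    have hright : ∀ c : Fin 3 → F, φ (c 0 • e + c 1 • f + c 2 • w) = c := by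
      intro c
      funext i
      fin_cases i <;>
        simp [φ, AutPSU.H_add_left, AutPSU.H_smul_left, hee, hff, hef, hfe, hwe, hew, hwf, hfw, hww]
    have hinj : Function.Injective φ := Finite.injective_iff_surjective.mpr fun c => ⟨_, hright c⟩
    intro v
    exact hinj (by rw [show φ v = φ v from rfl]; exact (hright (φ v)).symm)
  have hext : ∀ {s s' : Cfsg.SU 3 F 4}, AutPSU.app s e = AutPSU.app s' e →
      AutPSU.app s f = AutPSU.app s' f → AutPSU.app s w = AutPSU.app s' w → s = s' := by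
    intro s s' h1 h2 h3
    refine AutPSU.su_ext fun v => ?_
    show AutPSU.app s v = AutPSU.app s' v
    rw [hbase v]
    simp only [AutPSU.app_add, AutPSU.app_smul, h1, h2, h3]
  obtain ⟨c', hc'⟩ := hd.2
  have hc'5 : c' ^ 5 = 1 := by
    have h := AutPSU.app_H d e f
    rw [hd.1, hc', AutPSU.H_smul_left, AutPSU.H_smul_right, hef, mul_one, ← hσdef, hσ] at h
    have h' : c' ^ 4 = ζ⁻¹ := eq_inv_of_mul_eq_one_right h
    have h5 : (c' ^ 4) ^ 5 = 1 := by rw [h', inv_pow, hζ5, inv_one]
    have h15 : c' ^ 15 = 1 := by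
      have := FiniteField.pow_card_sub_one_eq_one c' (fun h0 => by
        rw [h0] at h5; norm_num at h5)
      rwa [hF] at this
    calc c' ^ 5 = c' ^ 5 * c' ^ 15 := by rw [h15, mul_one]
      _ = (c' ^ 4) ^ 5 := by ring
      _ = 1 := h5
  have hdpow : ∀ n : ℕ, AutPSU.app (d ^ n) e = ζ ^ n • e ∧ AutPSU.app (d ^ n) f = c' ^ n • f ∧
      AutPSU.app (d ^ n) w = (σ ζ / ζ) ^ n • w := by
    intro n
    induction n with
    | zero => simp [AutPSU.app_one]
    | succ n ih =>
      obtain ⟨i1, i2, i3⟩ := ih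
      refine ⟨?_, ?_, ?_⟩
      · rw [pow_succ, AutPSU.app_mul, hd.1, AutPSU.app_smul, i1, smul_smul, pow_succ']
      · rw [pow_succ, AutPSU.app_mul, hc', AutPSU.app_smul, i2, smul_smul, pow_succ']
      · rw [pow_succ, AutPSU.app_mul, hdw, AutPSU.app_smul, i3, smul_smul, pow_succ']
  have hd5 : d ^ 5 = 1 := by
    obtain ⟨i1, i2, i3⟩ := hdpow 5
    refine hext ?_ ?_ ?_
    · rw [i1, hζ5, one_smul, AutPSU.app_one]
    · rw [i2, hc'5, one_smul, AutPSU.app_one]
    · rw [i3, hσ, div_pow, ← pow_mul, mul_comm, pow_mul, hζ5, one_pow, div_one, one_smul, AutPSU.app_one]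
  -- generators
  set τ₀ : F := b + b ^ 3 with hτ₀
  have hVpow : ∀ i : ℕ, Valid (b ^ i) τ₀ := by
    intro i
    show τ₀ + σ τ₀ = b ^ i * σ (b ^ i)
    rw [hσ, hσ, show b ^ i * (b ^ i) ^ 4 = (b ^ 5) ^ i by ring, hb5, one_pow, hτ₀]
    grind
  let X : ℕ → Cfsg.SU 3 F 4 := fun i => E (b ^ i) τ₀
  have hXsucc : ∀ i, d * X i * d⁻¹ = X (i + 1) := fun i =>
    (hdE (hVpow i) (hVb (hVpow i))).trans (by rw [← pow_succ])
  have hVA : Valid 0 (b + b ^ 4) := by
    show b + b ^ 4 + σ (b + b ^ 4) = 0 * σ 0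
    rw [hσ, zero_mul]
    grind
  let A := E 0 (b + b ^ 4)
  have hsq : ∀ i, X i * X i = t := fun i => by
    show E (b ^ i) τ₀ * E (b ^ i) τ₀ = E 0 1
    rw [hEmul (hVpow i) (hVpow i)]
    refine congrArg₂ E (CharTwo.add_self_eq_zero _) ?_
    rw [CharTwo.add_self_eq_zero, zero_add, hσ, show b ^ i * (b ^ i) ^ 4 = (b ^ 5) ^ i by ring, hb5, one_pow]
  have hZcomm : ∀ {γ β γ' : F} (h : Valid 0 γ) (h' : Valid β γ'), Commute (E 0 γ) (E β γ') :=
    fun h h' => by
      show _ * _ = _ * _
      rw [hEmul h h', hEmul h' h]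
      refine congrArg₂ E (add_comm _ _) ?_
      rw [map_zero, mul_zero, zero_mul]; ring
  have hZ2 : ∀ {γ : F} (h : Valid 0 γ), E 0 γ * E 0 γ = 1 := fun {γ} h => by
    rw [hEmul h h, ← hE1]
    refine congrArg₂ E (add_zero _) ?_
    rw [zero_mul, add_zero, CharTwo.add_self_eq_zero]
  have hdA : d * A * d⁻¹ = A := (hdE hVA (hVb hVA)).trans (by rw [zero_mul])
  have hcomm : ∀ i < 4, ∀ j < 4, i < j → X i * X j = X j * X i * (if j = i + 1 then A else A * t) := by
    intro i hi j hj hij
    have hk : ∀ (γ : F) (hγ : Valid 0 γ), b ^ j * σ (b ^ i) = b ^ i * σ (b ^ j) + γ →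
        X i * X j = X j * X i * E 0 γ := by
      intro γ hγ h
      show E (b ^ i) τ₀ * E (b ^ j) τ₀ = E (b ^ j) τ₀ * E (b ^ i) τ₀ * E 0 γ
      rw [hEmul (hVpow i) (hVpow j), hEmul (hVpow j) (hVpow i), hEmul (hVmul (hVpow j) (hVpow i)) hγ]
      refine congrArg₂ E (by ring) ?_
      rw [zero_mul, h]; ring
    split_ifs with hh
    · subst hh
      refine hk _ hVA ?_
      rw [hσ, hσ]
      interval_cases i <;> grind
    · rw [show A * t = E 0 (b + b ^ 4 + 1) by
        show E 0 (b + b ^ 4) * E 0 1 = _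
        rw [hEmul hVA hV01, add_zero, zero_mul, add_zero]]
      refine hk _ (by have := hVmul hVA hV01; simpa using this) ?_
      rw [hσ, hσ]
      interval_cases i <;> interval_cases j <;> first | omega | grind
  have hwrap : X 4 = X 0 * X 1 * X 2 * X 3 := by
    show E (b ^ 4) τ₀ = E (b ^ 0) τ₀ * E (b ^ 1) τ₀ * E (b ^ 2) τ₀ * E (b ^ 3) τ₀
    rw [hEmul (hVpow 0) (hVpow 1), hEmul (hVmul (hVpow 0) (hVpow 1)) (hVpow 2),
      hEmul (hVmul (hVmul (hVpow 0) (hVpow 1)) (hVpow 2)) (hVpow 3)]
    refine congrArg₂ E ?_ ?_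
    · grind
    · have s1 : σ b = b ^ 4 := hσ b
      have s2 : σ (b ^ 2) = b ^ 3 := by rw [hσ]; linear_combination b ^ 3 * hb5
      simp only [pow_zero, pow_one, map_add, map_one, s1, s2, hτ₀, mul_one]
      linear_combination -(2 * b + b ^ 2 + 2 * b ^ 3 + b ^ 6) * h2 - b ^ 2 * hb5
  set C := Subgroup.centralizer ({t} : Set (Cfsg.SU 3 F 4)) with hCdef
  have hEC : ∀ {β γ : F}, Valid β γ → E β γ ∈ C := fun {β γ} h =>
    Subgroup.mem_centralizer_singleton_iff.mpr (hZcomm hV01 h).eq.symm
  have hdC : d ∈ C := Subgroup.mem_centralizer_singleton_iff.mpr (mul_inv_eq_iff_eq_mul.mp hdt)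
  have htC : t ∈ C := hEC hV01
  have hAC : A ∈ C := hEC hVA
  have hw3 : ∀ {β γ : F}, Valid β γ → AutPSU.app (E β γ) w = w + (- σ β) • e := by
    intro β γ h
    rw [hEeq h]
    simp [hwe, hww, AutPSU.H_smul_right, ← hσdef]
    module
  -- every element of the centraliser
  have hform : ∀ s ∈ C, ∃ p : {p : F × F // Valid p.1 p.2}, ∃ k : Fin 5,
      E p.1.1 p.1.2 * d ^ (k : ℕ) = s := by
    intro s hs
    have hst : s * t = t * s := Subgroup.mem_centralizer_singleton_iff.mp hs
    have htv : ∀ v, AutPSU.app t v = v + Cfsg.hermForm 3 F 4 v e • e := fun v => by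
      show AutPSU.app (E 0 1) v = _
      rw [hEeq hV01]
      simp
    have hcm : ∀ v, Cfsg.hermForm 3 F 4 v e • AutPSU.app s e =
        Cfsg.hermForm 3 F 4 (AutPSU.app s v) e • e := by
      intro v
      have := congrArg (fun g => AutPSU.app g v) hst
      simp only [AutPSU.app_mul, htv, AutPSU.app_add, AutPSU.app_smul] at this
      exact add_left_cancel this
    have he' := hcm f
    rw [hfe, one_smul] at he'
    set lam := Cfsg.hermForm 3 F 4 (AutPSU.app s f) e with hlam
    have hnorm : lam ^ 5 = 1 := by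
      have := AutPSU.app_H s f e
      rw [hfe, he', AutPSU.H_smul_right, ← hlam, ← hσdef, hσ] at this
      rw [pow_succ]; exact this
    haveI : NeZero 5 := ⟨by norm_num⟩
    have hζp : IsPrimitiveRoot ζ 5 := by rw [← hζord]; exact IsPrimitiveRoot.orderOf ζ
    obtain ⟨k, hk, hkl⟩ := hζp.eq_pow_of_pow_eq_one hnorm
    set s' := s * (d ^ k)⁻¹ with hs'def
    have hs'C : s' ∈ C := C.mul_mem hs (C.inv_mem (C.pow_mem hdC k))
    have hs'e : AutPSU.app s' e = e := by
      have h1 : AutPSU.app s' (AutPSU.app (d ^ k) e) = AutPSU.app s e := by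
        rw [← AutPSU.app_mul, hs'def, inv_mul_cancel_right]
      rw [(hdpow k).1, hkl, AutPSU.app_smul, he'] at h1
      exact smul_right_injective _ (fun h0 => by rw [h0] at hnorm; norm_num at hnorm) h1
    set v := AutPSU.app s' f with hv
    have hv1 : Cfsg.hermForm 3 F 4 v e = 1 := by
      have := AutPSU.app_H s' f e
      rw [hs'e, hfe] at this
      exact this
    set β := Cfsg.hermForm 3 F 4 v w
    set γ := Cfsg.hermForm 3 F 4 v f
    have hvdec : v = f + β • w + γ • e := by
      rw [hbase v, hv1]; module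
    have hval : Valid β γ := by
      have := AutPSU.app_H s' f f
      rw [← hv, hff, hvdec] at this
      simp only [AutPSU.H_add_left, AutPSU.H_add_right, AutPSU.H_smul_left, AutPSU.H_smul_right,
        hee, hff, hef, hfe, hwe, hew, hwf, hfw, hww, ← hσdef] at this
      show γ + σ γ = β * σ β
      linear_combination this - β * σ β * h2
    refine ⟨⟨(β, γ), hval⟩, ⟨k, hk⟩, ?_⟩
    show E β γ * d ^ k = s
    set u := (E β γ)⁻¹ * s' with hu
    have hEβe := hEe hval
    have hue : AutPSU.app u e = e := by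
      rw [hu, AutPSU.app_mul, hs'e]
      conv_lhs => rw [← hEβe]
      exact AutPSU.app_inv _ _
    have huf : AutPSU.app u f = f := by
      rw [hu, AutPSU.app_mul, ← hv, hvdec, ← hEf hval]
      exact AutPSU.app_inv _ _
    have huW : AutPSU.InW 4 e f (AutPSU.app u w) := by
      constructor
      · have := AutPSU.app_H u w e
        rw [hue, hwe] at this
        exact this
      · have := AutPSU.app_H u w f
        rw [huf, hwf] at this
        exact this
    set ν := Cfsg.hermForm 3 F 4 (AutPSU.app u w) w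
    have huw : AutPSU.app u w = ν • w := by
      have := hbase (AutPSU.app u w)
      rw [huW.1, huW.2] at this
      simpa using this
    have hlin : Matrix.toLin' ((u : Matrix.SpecialLinearGroup (Fin 3) F) : Matrix (Fin 3) (Fin 3) F) =
        AutPSU.reflLin 4 w ν := by
      refine LinearMap.ext fun x => ?_
      rw [Matrix.toLin'_apply]
      show AutPSU.app u x = _
      rw [AutPSU.reflLin_apply, hww, div_one]
      conv_lhs => rw [hbase x]
      rw [AutPSU.app_add, AutPSU.app_add, AutPSU.app_smul, AutPSU.app_smul, AutPSU.app_smul, hue, huf, huw]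
      conv_rhs => arg 1; rw [hbase x]
      module
    have hν : ν = 1 := by
      have := congrArg LinearMap.det hlin
      rw [LinearMap.det_toLin', AutPSU.reflLin_det (by rw [hww]; exact one_ne_zero),
        (u : Matrix.SpecialLinearGroup (Fin 3) F).2] at this
      exact this.symm
    have hu1 : u = 1 := hext (by rw [hue, AutPSU.app_one]) (by rw [huf, AutPSU.app_one])
      (by rw [huw, hν, one_smul, AutPSU.app_one])
    rw [hu, inv_mul_eq_one] at hu1
    rw [hu1, hs'def, inv_mul_cancel_right]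
  -- counting
  have hD : Nat.card {p : F × F // Valid p.1 p.2} = 64 := by
    have hg : ∀ a : F, ∃ t : F, t + σ t = a * σ a := fun a =>
      AutPSU.exists_trace (by rw [map_mul, hσdef, AutPSU.qb_qb, mul_comm])
    choose g hg using hg
    rw [Nat.card_congr (show {p : F × F // Valid p.1 p.2} ≃ F × {k : F // k + σ k = 0} from
      { toFun := fun p => (p.1.1, ⟨p.1.2 + g p.1.1, by
          rw [map_add]; linear_combination p.2 + hg p.1.1 + CharTwo.add_self_eq_zero (p.1.1 * σ p.1.1)⟩)
        invFun := fun p => ⟨(p.1, p.2.1 + g p.1), by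
          show p.2.1 + g p.1 + σ (p.2.1 + g p.1) = _
          rw [map_add]; linear_combination p.2.2 + hg p.1⟩
        left_inv := fun p => Subtype.ext (Prod.ext rfl (by
          show p.1.2 + g p.1.1 + g p.1.1 = p.1.2
          rw [add_assoc, CharTwo.add_self_eq_zero, add_zero]))
        right_inv := fun p => Prod.ext rfl (Subtype.ext (by
          show p.2.1 + g p.1 + g p.1 = p.2.1
          rw [add_assoc, CharTwo.add_self_eq_zero, add_zero])) }), Nat.card_prod,
      Nat.card_eq_fintype_card, hF, InvChar.card_trace_ker]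
  let Φ : {p : F × F // Valid p.1 p.2} × Fin 5 → C := fun x =>
    ⟨E x.1.1.1 x.1.1.2 * d ^ (x.2 : ℕ), C.mul_mem (hEC x.1.2) (C.pow_mem hdC _)⟩
  have hΦs : Function.Surjective Φ := by
    rintro ⟨s, hs⟩
    obtain ⟨p, k, h⟩ := hform s hs
    exact ⟨(p, k), Subtype.ext h⟩
  have hΦi : Function.Injective Φ := by
    rintro ⟨⟨⟨β, γ⟩, h⟩, k⟩ ⟨⟨⟨β', γ'⟩, h'⟩, k'⟩ heq
    have e0 : E β γ * d ^ (k : ℕ) = E β' γ' * d ^ (k' : ℕ) := congrArg Subtype.val heq
    have e1 := congrArg (fun s => AutPSU.app s e) e0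
    simp only [AutPSU.app_mul, (hdpow _).1, AutPSU.app_smul, hEe h, hEe h'] at e1
    have hkk : k = k' := Fin.ext (pow_injOn_Iio_orderOf (x := ζ) (by rw [Set.mem_Iio, hζord]; exact k.2)
      (by rw [Set.mem_Iio, hζord]; exact k'.2) (smul_left_injective F hp.e_ne e1))
    subst hkk
    have e2 := congrArg (fun s => AutPSU.app s f) (mul_right_cancel e0)
    simp only [hEf h, hEf h'] at e2
    have e3 := congrArg (fun v => Cfsg.hermForm 3 F 4 v w) e2
    have e4 := congrArg (fun v => Cfsg.hermForm 3 F 4 v f) e2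
    simp [AutPSU.H_add_left, AutPSU.H_smul_left, hfw, hww, hew] at e3
    simp [AutPSU.H_add_left, AutPSU.H_smul_left, hff, hwf, hef] at e4
    simp [e3, e4]
  have hcardC : Nat.card C = 320 := by
    rw [← Nat.card_eq_of_bijective Φ ⟨hΦi, hΦs⟩, Nat.card_prod, hD, Nat.card_fin]
  -- the generators generate
  let Y : ℕ → C := fun i => ⟨X i, hEC (hVpow i)⟩
  set K := Subgroup.closure ({X 0, d} : Set (Cfsg.SU 3 F 4)) with hK
  have hdK : d ∈ K := Subgroup.subset_closure (Set.mem_insert_of_mem _ rfl)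
  have hXK : ∀ i, X i ∈ K := by
    intro i
    induction i with
    | zero => exact Subgroup.subset_closure (Set.mem_insert _ _)
    | succ i ih => rw [← hXsucc]; exact K.mul_mem (K.mul_mem hdK ih) (K.inv_mem hdK)
  let Ω : AddSubgroup F :=
    { carrier := {β | ∃ γ, Valid β γ ∧ E β γ ∈ K}
      zero_mem' := ⟨0, hV0, by rw [hE1]; exact K.one_mem⟩
      add_mem' := by
        rintro β β' ⟨γ, h, hm⟩ ⟨γ', h', hm'⟩
        exact ⟨_, hVmul h h', by rw [← hEmul h h']; exact K.mul_mem hm hm'⟩
      neg_mem' := fun {β} hβ => by rwa [CharTwo.neg_eq] }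
  have hΩ : ∀ β : F, β ∈ Ω := by
    let R := Subring.closure ({b} : Set F)
    have hsub : ∀ r ∈ R, r ∈ Ω := by
      intro r hr
      have hr := Subring.mem_closure_iff.mp hr
      refine (AddSubgroup.closure_le Ω).mpr ?_ hr
      intro m hm
      obtain ⟨i, rfl⟩ := Submonoid.mem_closure_singleton.mp hm
      exact ⟨τ₀, hVpow i, hXK i⟩
    letI : Field R := Fintype.fieldOfDomain R
    have hbR : (⟨b, Subring.subset_closure rfl⟩ : R) ≠ 0 := fun h0 => by
      have := congrArg Subtype.val h0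
      simp only [ZeroMemClass.coe_zero] at this
      rw [this] at hb5; norm_num at hb5
    have h1 := congrArg Subtype.val (FiniteField.pow_card_sub_one_eq_one _ hbR)
    simp only [SubmonoidClass.coe_pow, OneMemClass.coe_one] at h1
    have hb5' : orderOf b = 5 := orderOf_eq_prime hb5 hb1
    have h2' := orderOf_dvd_of_pow_eq_one h1
    rw [hb5'] at h2'
    have h3 : Nat.card R.toAddSubgroup ∣ 16 := by
      rw [← hF, ← Nat.card_eq_fintype_card]; exact AddSubgroup.card_addSubgroup_dvd_card _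
    have h4 : 1 < Nat.card R := Finite.one_lt_card_iff_nontrivial.mpr inferInstance
    have hR : Nat.card R.toAddSubgroup = 16 := by
      have e : Nat.card R.toAddSubgroup = Nat.card R := rfl
      rw [← Nat.card_eq_fintype_card] at h2'
      have hm := Nat.mem_divisors.mpr ⟨h3, by norm_num⟩
      rw [show Nat.divisors 16 = {1, 2, 4, 8, 16} by decide] at hm
      simp only [Finset.mem_insert, Finset.mem_singleton] at hm
      rw [e] at hm ⊢
      rcases hm with h | h | h | h | h <;> first | exact h | (exfalso; rw [h] at h2' h4; omega)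
    have htop : R.toAddSubgroup = ⊤ :=
      AddSubgroup.eq_top_of_card_eq _ (by rw [hR, Nat.card_eq_fintype_card, hF])
    intro β
    exact hsub β (by
      show β ∈ R.toAddSubgroup
      rw [htop]; trivial)
  have hker : ∀ γ, Valid 0 γ → E 0 γ ∈ K := by
    intro γ hγ
    have htK : t ∈ K := by rw [← hsq 0]; exact K.mul_mem (hXK 0) (hXK 0)
    have hAK : A ∈ K := by
      have e := hcomm 0 (by norm_num) 1 (by norm_num) (by norm_num)
      rw [if_pos rfl] at e
      have : A = (X 1 * X 0)⁻¹ * (X 0 * X 1) := by rw [e]; group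
      rw [this]
      exact K.mul_mem (K.inv_mem (K.mul_mem (hXK 1) (hXK 0))) (K.mul_mem (hXK 0) (hXK 1))
    let T : Finset F := {0, 1, b + b ^ 4, b + b ^ 4 + 1}
    have hbb : b + b ^ 4 ≠ 0 ∧ b + b ^ 4 ≠ 1 := by
      constructor
      · intro h
        exact hb1 (by grind)
      · intro h
        exact hb1 (by grind)
    have hT4 : T.card = 4 := by
      simp only [T]
      rw [Finset.card_insert_of_notMem, Finset.card_insert_of_notMem, Finset.card_insert_of_notMem,
        Finset.card_singleton] <;> simp <;> grind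
    have hTsub : T ⊆ Finset.univ.filter (fun k : F => k + σ k = 0) := by
      intro k hk
      simp only [T, Finset.mem_insert, Finset.mem_singleton] at hk
      simp only [Finset.mem_filter, Finset.mem_univ, true_and]
      have h1 : (1 : F) + σ 1 = 1 * σ 1 + 1 * σ 1 := by rw [map_one]; ring
      have hA' : b + b ^ 4 + σ (b + b ^ 4) = 0 * σ 0 := hVA
      rcases hk with rfl | rfl | rfl | rfl
      · simp
      · rw [map_one, CharTwo.add_self_eq_zero]
      · rw [hA', zero_mul]
      · rw [zero_mul] at hA'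
        rw [map_add σ (b + b ^ 4) 1, map_one]
        linear_combination hA' + h2
    have hTeq : T = Finset.univ.filter (fun k : F => k + σ k = 0) := Finset.eq_of_subset_of_card_le hTsub (by
      rw [hT4, ← Fintype.card_subtype, ← Nat.card_eq_fintype_card, InvChar.card_trace_ker])
    have hmem : γ ∈ T := by
      rw [hTeq]
      simp only [Finset.mem_filter, Finset.mem_univ, true_and]
      have : γ + σ γ = 0 * σ 0 := hγ
      rw [this, zero_mul]
    simp only [T, Finset.mem_insert, Finset.mem_singleton] at hmem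
    rcases hmem with rfl | rfl | rfl | rfl
    · rw [hE1]; exact K.one_mem
    · exact htK
    · exact hAK
    · have : E 0 (b + b ^ 4) * E 0 1 = E 0 (b + b ^ 4 + 1) := by
        rw [hEmul hVA hV01, add_zero, zero_mul, add_zero]
      rw [← this]; exact K.mul_mem hAK htK
  have hCK : C ≤ K := by
    intro s hs
    obtain ⟨⟨⟨β, γ⟩, h⟩, k, rfl⟩ := hform s hs
    refine K.mul_mem ?_ (K.pow_mem hdK _)
    obtain ⟨γ', h', hm⟩ := hΩ β
    have hv0 : Valid 0 (γ + γ') := by
      show γ + γ' + σ (γ + γ') = 0 * σ 0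
      have h1 : γ + σ γ = β * σ β := h
      have h1' : γ' + σ γ' = β * σ β := h'
      rw [map_add, zero_mul]
      linear_combination h1 + h1' + β * σ β * h2
    have : E 0 (γ + γ') * E β γ' = E β γ := by
      rw [hEmul hv0 h', zero_add, map_zero, mul_zero, add_zero, add_assoc, CharTwo.add_self_eq_zero, add_zero]
    rw [← this]
    exact K.mul_mem (hker _ hv0) hm
  refine ⟨t, Y, ⟨d, hdC⟩, ⟨t, htC⟩, ⟨A, hAC⟩, orderOf_eq_prime (by rw [pow_two]; exact hZ2 hV01) ?_, ?_, ?_, hcardC⟩
  · intro h1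
    have := congrArg (fun g => AutPSU.app g f) h1
    simp only [t, hEf hV01, AutPSU.app_one, zero_smul, add_zero, one_smul, add_eq_left] at this
    exact hp.e_ne this
  · exact
      { cpow := Subtype.ext hd5
        conj := fun i _ => Subtype.ext (hXsucc i)
        zc := Subtype.ext (mul_inv_eq_iff_eq_mul.mp hdt).symm
        ac := Subtype.ext (mul_inv_eq_iff_eq_mul.mp hdA).symm
        za := Subtype.ext (hZcomm hV01 hVA).eq
        zx := fun i _ => Subtype.ext (hZcomm hV01 (hVpow i)).eq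
        ax := fun i _ => Subtype.ext (hZcomm hVA (hVpow i)).eq
        z2 := Subtype.ext (hZ2 hV01)
        a2 := Subtype.ext (hZ2 hVA)
        sq := fun i _ => Subtype.ext (hsq i)
        comm := fun i hi j hj hij => by
          have e := hcomm i hi j hj hij
          split_ifs with hh
          · rw [if_pos hh] at e; exact Subtype.ext e
          · rw [if_neg hh] at e; exact Subtype.ext e
        wrap := Subtype.ext hwrap }
  · apply Subgroup.map_injective C.subtype_injective
    rw [MonoidHom.map_closure, Set.image_insert_eq, Set.image_singleton, ← MonoidHom.range_eq_map,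
      Subgroup.range_subtype]
    refine le_antisymm ?_ hCK
    rw [Subgroup.closure_le]
    rintro _ (rfl | rfl)
    · exact hEC (hVpow 0)
    · exact hdC

end Cfsg.Agent.O320
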